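import Mathlib.GroupTheory.PGroup
import Mathlib.GroupTheory.Solvable
import Mathlib.GroupTheory.Perm.Cycle.Type
import Mathlib.GroupTheory.Index

/-!
A complement of a minimal normal subgroup of a solvable group, with trivial core.
-/

set_option autoImplicit false

namespace Cfsg.Agent.ProjExt

universe u

variable {Q : Type u} [Group Q]

/-- In a solvable group a nontrivial subgroup that is minimal among those normalised by `H`
is abelian. -/
theorem comm_of_minimal [Group.IsSolvable Q] {H N : Subgroup Q}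
    (hN : ∀ h ∈ H, ∀ x ∈ N, h * x * h⁻¹ ∈ N) (hne : N ≠ ⊥)
    (hmin : ∀ S ≤ N, (∀ h ∈ H, ∀ x ∈ S, h * x * h⁻¹ ∈ S) → S = ⊥ ∨ S = N) :
    ∀ x ∈ N, ∀ y ∈ N, x * y = y * x := by
  have hlt := IsSolvable.commutator_lt_of_ne_bot hne
  have hinv : ∀ h ∈ H, ∀ x ∈ ⁅N, N⁆, h * x * h⁻¹ ∈ ⁅N, N⁆ := by
    intro h hh x hx
    have h2 : ⁅N, N⁆.map (MulAut.conj h).toMonoidHom ≤ ⁅N, N⁆ := by
      have h3 : N.map (MulAut.conj h).toMonoidHom ≤ N := by
        rintro _ ⟨y, hy, rfl⟩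
        exact hN h hh y hy
      rw [Subgroup.map_commutator]
      exact Subgroup.commutator_mono h3 h3
    exact h2 ⟨x, hx, rfl⟩
  rcases hmin _ hlt.le hinv with h | h
  · intro x hx y hy
    have := Subgroup.commutator_mem_commutator hx hy
    rw [h, Subgroup.mem_bot] at this
    exact commutatorElement_eq_one_iff_mul_comm.1 this
  · exact absurd h hlt.ne

/-- A subgroup normalised by two factors of the group is normal. -/
theorem normal_of_sup {H M S : Subgroup Q} [M.Normal] (hsup : H ⊔ M = ⊤)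
    (hH : ∀ h ∈ H, ∀ x ∈ S, h * x * h⁻¹ ∈ S) (hM : ∀ m ∈ M, ∀ x ∈ S, m * x * m⁻¹ ∈ S) :
    S.Normal := by
  refine ⟨fun x hx g => ?_⟩
  obtain ⟨h, hh, m, hm, rfl⟩ := Subgroup.mem_sup_of_normal_right.1 (hsup ▸ Subgroup.mem_top g)
  have := hH h hh _ (hM m hm x hx)
  simpa [mul_assoc] using this

theorem complement_step [Finite Q] [Group.IsSolvable Q] (H M : Subgroup Q) [hMn : M.Normal]
    (hcomm : ∀ x ∈ M, ∀ y ∈ M, x * y = y * x) (hsup : H ⊔ M = ⊤)
    (hmin : ∀ N : Subgroup Q, N.Normal → N ≤ M → N = ⊥ ∨ N = M)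
    (hcore : ∀ N : Subgroup Q, N.Normal → N ≤ H → N = ⊥) (hH : H ≠ ⊥) :
    ∃ (q : ℕ) (N : Subgroup Q), q.Prime ∧ N ≤ H ∧ (∀ h ∈ H, ∀ x ∈ N, h * x * h⁻¹ ∈ N) ∧
      (∀ x ∈ N, ∀ y ∈ N, x * y = y * x) ∧ (∀ x ∈ N, x ^ q = 1) ∧ ¬q ∣ Nat.card M ∧
        ∃ x ∈ N, ∃ m ∈ M, x * m ≠ m * x := by
  classical
  have : WellFoundedLT (Subgroup Q) := letI : Finite (Subgroup Q) := Finite.of_injective _ SetLike.coe_injective; Finite.to_wellFoundedLT
  obtain ⟨N, hNmem, hNmin⟩ := wellFounded_lt.has_min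
    {N : Subgroup Q | N ≤ H ∧ N ≠ ⊥ ∧ ∀ h ∈ H, ∀ x ∈ N, h * x * h⁻¹ ∈ N}
    ⟨H, le_rfl, hH, fun h hh x hx => H.mul_mem (H.mul_mem hh hx) (H.inv_mem hh)⟩
  obtain ⟨hNH, hN0, hNinv⟩ := hNmem
  have hmin' : ∀ S ≤ N, (∀ h ∈ H, ∀ x ∈ S, h * x * h⁻¹ ∈ S) → S = ⊥ ∨ S = N := by
    intro S hS hinv
    by_contra! h
    exact hNmin S ⟨hS.trans hNH, h.1, hinv⟩ (lt_of_le_of_ne hS h.2)
  have hab := comm_of_minimal hNinv hN0 hmin'
  have hcard : Nat.card N ≠ 1 := fun h => hN0 (Subgroup.card_eq_one.1 h)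
  set q := (Nat.card N).minFac with hq
  have hqp : q.Prime := Nat.minFac_prime hcard
  have := Fact.mk hqp
  let S : Subgroup Q :=
    { carrier := {x | x ∈ N ∧ x ^ q = 1}
      one_mem' := ⟨N.one_mem, one_pow _⟩
      mul_mem' := fun {x y} hx hy => ⟨N.mul_mem hx.1 hy.1, by
        rw [(show Commute x y from hab x hx.1 y hy.1).mul_pow, hx.2, hy.2, one_mul]⟩
      inv_mem' := fun {x} hx => ⟨N.inv_mem hx.1, by rw [inv_pow, hx.2, inv_one]⟩ }
  have hSN : S = N := by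
    refine (hmin' S (fun x hx => hx.1) fun h hh x hx => ⟨hNinv h hh x hx.1, by
      rw [conj_pow, hx.2, mul_one, mul_inv_cancel]⟩).resolve_left fun h => ?_
    obtain ⟨x, hx⟩ := exists_prime_orderOf_dvd_card' (G := N) q (Nat.minFac_dvd _)
    have hxS : (x : Q) ∈ S := ⟨x.2, by
      rw [← Subgroup.coe_pow, ← hx, pow_orderOf_eq_one, Subgroup.coe_one]⟩
    rw [h, Subgroup.mem_bot] at hxS
    rw [show x = 1 from Subtype.ext hxS, orderOf_one] at hx
    exact hqp.ne_one hx.symm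
  have hexp : ∀ x ∈ N, x ^ q = 1 := fun x hx => (hSN.ge hx).2
  have hnc : ∃ x ∈ N, ∃ m ∈ M, x * m ≠ m * x := by
    by_contra! h
    refine hN0 (hcore N (normal_of_sup hsup hNinv fun m hm x hx => ?_) hNH)
    rwa [← h x hx m hm, mul_inv_cancel_right]
  refine ⟨q, N, hqp, hNH, hNinv, hab, hexp, fun hdvd => ?_, hnc⟩
  let act : MulAction N M :=
    MulAction.compHom M ((MulAut.conjNormal (H := M)).comp N.subtype)
  let C : Subgroup Q :=
    { carrier := {m | m ∈ M ∧ ∀ x ∈ N, x * m = m * x}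
      one_mem' := ⟨M.one_mem, fun x _ => by simp⟩
      mul_mem' := fun {m m'} hm hm' => ⟨M.mul_mem hm.1 hm'.1, fun x hx =>
        (show Commute x (m * m') from
          (show Commute x m from hm.2 x hx).mul_right (show Commute x m' from hm'.2 x hx)).eq⟩
      inv_mem' := fun {m} hm => ⟨M.inv_mem hm.1, fun x hx =>
        (show Commute x m from hm.2 x hx).inv_right.eq⟩ }
  have hCn : C.Normal := by
    refine normal_of_sup hsup (fun h hh m hm => ⟨hMn.conj_mem m hm.1 h, fun x hx => ?_⟩)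
      fun m' hm' m hm => ?_
    · have h1 := hm.2 _ (hNinv h⁻¹ (H.inv_mem hh) x hx)
      have h2 := congrArg (fun y => h * y * h⁻¹) h1
      simpa [mul_assoc] using h2
    · rw [hcomm m' hm' m hm.1, mul_inv_cancel_right]
      exact hm
  have hC : C ≠ ⊥ := by
    have hfix : (1 : M) ∈ MulAction.fixedPoints N M := fun x => map_one (MulAut.conjNormal (x : Q))
    have hpg : IsPGroup q N := fun x => ⟨1, Subtype.ext (by
      rw [pow_one, Subgroup.coe_pow, hexp x x.2, Subgroup.coe_one])⟩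
    obtain ⟨b, hb, hb1⟩ := hpg.exists_fixed_point_of_prime_dvd_card_of_fixed_point M hdvd hfix
    intro h
    have hbC : (b : Q) ∈ C := ⟨b.2, fun x hx => by
      have h1 : x * (b : Q) * x⁻¹ = b := congrArg Subtype.val (hb ⟨x, hx⟩)
      exact mul_inv_eq_iff_eq_mul.1 h1⟩
    rw [h, Subgroup.mem_bot] at hbC
    exact hb1 (Subtype.ext hbC.symm)
  obtain ⟨x, hx, m, hm, hxm⟩ := hnc
  exact hxm ((((hmin C hCn fun y hy => hy.1).resolve_left hC).ge hm).2 x hx)

end Cfsg.Agent.ProjExt
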