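import Cfsg.Agent.ProjExt.Berger.Sub
import Cfsg.Agent.ProjExt.Berger.GroupCase
import Mathlib.LinearAlgebra.Eigenspace.Pi
import Mathlib.LinearAlgebra.Eigenspace.Semisimple
import Mathlib.LinearAlgebra.Eigenspace.Triangularizable
import Mathlib.LinearAlgebra.Semisimple
import Mathlib.FieldTheory.Separable
import Mathlib.LinearAlgebra.TensorProduct.Finiteness
import Mathlib.LinearAlgebra.Dimension.Constructions

/-!
A quasiprimitive representation of a solvable group is primitive.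
-/

set_option autoImplicit false

namespace Cfsg.Agent.ProjExt

open Module
open scoped Matrix ComplexConjugate

universe u

variable {G : Type u} [Group G] [Finite G] {n : ℕ}

/-- The elements acting as scalars. -/
def scalars (ρ : Representation ℂ G (Fin n → ℂ)) : Subgroup G where
  carrier := {g | ∃ c : ℂ, ρ g = c • 1}
  one_mem' := ⟨1, by rw [map_one, one_smul]⟩
  mul_mem' := by
    rintro x y ⟨c, hc⟩ ⟨d, hd⟩
    exact ⟨c * d, by rw [map_mul, hc, hd, smul_mul_smul_comm, one_mul]⟩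
  inv_mem' := by
    rintro x ⟨c, hc⟩
    refine ⟨c ^ (orderOf x - 1), ?_⟩
    have h : x⁻¹ = x ^ (orderOf x - 1) := by
      refine inv_eq_of_mul_eq_one_right ?_
      rw [← pow_succ', Nat.sub_add_cancel (orderOf_pos x), pow_orderOf_eq_one]
    rw [h, map_pow, hc, smul_pow, one_pow]

instance normal_scalars (ρ : Representation ℂ G (Fin n → ℂ)) : (scalars ρ).Normal :=
  ⟨fun x ⟨c, hc⟩ g => ⟨c, by
    rw [map_mul, map_mul, hc, mul_smul_comm, mul_one, smul_mul_assoc, ← map_mul, mul_inv_cancel,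
      map_one]⟩⟩

theorem mem_scalars {ρ : Representation ℂ G (Fin n → ℂ)} {g : G} :
    g ∈ scalars ρ ↔ ∃ c : ℂ, ρ g = c • 1 := Iff.rfl

section

variable (ρ : Representation ℂ G (Fin n → ℂ))

/-- Commutators into the scalars: the character vanishes off the scalars of such a subgroup. -/
theorem character_eq_zero {M : Subgroup G} (hM : Isotypic ρ M)
    (hcomm : ∀ x ∈ M, ∀ y ∈ M, x * y * x⁻¹ * y⁻¹ ∈ scalars ρ) {x : G} (hx : x ∈ M)
    (hxZ : x ∉ scalars ρ) : ρ.character x = 0 := by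
  obtain ⟨y, hy, hxy⟩ : ∃ y ∈ M, ¬Commute (ρ x) (ρ y) := by
    by_contra! h
    exact hxZ (hM (ρ x) h fun F hF => (hF x hx).symm)
  obtain ⟨c, hc⟩ := hcomm y hy x hx
  have h1 : y * x * y⁻¹ = (y * x * y⁻¹ * x⁻¹) * x := by group
  have h2 : ρ (y * x * y⁻¹) = c • ρ x := by
    rw [h1, map_mul ρ (y * x * y⁻¹ * x⁻¹) x, hc, smul_mul_assoc, one_mul]
  have h3 : ρ.character x = c * ρ.character x := by
    conv_lhs => rw [← Char.isClassFunction_of_isCharacter ⟨n, ρ, rfl⟩ x y]
    show LinearMap.trace ℂ _ (ρ (y * x * y⁻¹)) = _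
    rw [h2, map_smul, smul_eq_mul]
    rfl
  have hc1 : c ≠ 1 := by
    rintro rfl
    rw [one_smul] at h2
    refine hxy (show ρ x * ρ y = ρ y * ρ x from ?_)
    have h4 := congrArg (fun f => f * ρ y) h2
    simp only [← map_mul] at h4 ⊢
    rw [← h4, inv_mul_cancel_right]
  have h5 : (c - 1) * ρ.character x = 0 := by rw [sub_mul, one_mul, ← h3, sub_self]
  exact (mul_eq_zero.1 h5).resolve_left (sub_ne_zero.2 hc1)

/-- The square of the degree of the constituent is the index of the scalars. -/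
theorem card_eq_of_commutators (hn : 0 < n) {M : Subgroup G} (hZM : scalars ρ ≤ M)
    (hM : Isotypic ρ M) (hcomm : ∀ x ∈ M, ∀ y ∈ M, x * y * x⁻¹ * y⁻¹ ∈ scalars ρ)
    {θ : M → ℂ} (hθ : IsIrrCharacter M θ) {a e : ℕ} (hae : n = a * e)
    (h : ∀ m : M, ρ.character m = e * θ m) :
    Nat.card M = Nat.card (scalars ρ) * (a * a) := by
  classical
  have := Fintype.ofFinite G
  have : Nonempty (Fin n) := ⟨⟨0, hn⟩⟩
  have h1 : classInner (fun m : M => ρ.character m) (fun m : M => ρ.character m) =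
      (e : ℂ) * e := by
    rw [show (fun m : M => ρ.character m) = (e : ℂ) • θ from funext fun m => by simp [h m],
      Char.classInner_smul_left, Char.classInner_smul_right, Char.classInner_irr_self hθ]
    simp
  have h2 : ∀ m : M, ρ.character m * conj (ρ.character m) =
      if (m : G) ∈ scalars ρ then (n : ℂ) * n else 0 := by
    intro m
    split_ifs with hm
    · obtain ⟨c, hc⟩ := hm
      obtain ⟨d, hd⟩ := (scalars ρ).inv_mem ⟨c, hc⟩
      have hcd : d * c = 1 := by
        have h3 : ρ ((m : G)⁻¹ * m) = (d * c) • 1 := by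
          rw [map_mul, hc, hd, smul_mul_smul_comm, one_mul]
        rw [inv_mul_cancel, map_one] at h3
        have h4 := congrArg (LinearMap.trace ℂ (Fin n → ℂ)) h3
        rw [map_smul, smul_eq_mul, Module.End.one_eq_id, LinearMap.trace_id,
          Module.finrank_fin_fun] at h4
        exact (mul_left_eq_self₀.1 h4.symm).resolve_right (Nat.cast_ne_zero.2 hn.ne')
      have h5 : ∀ (g : G) (b : ℂ), ρ g = b • 1 → ρ.character g = b * n := by
        intro g b hb
        show LinearMap.trace ℂ _ (ρ g) = _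
        rw [hb, map_smul, smul_eq_mul, Module.End.one_eq_id, LinearMap.trace_id,
          Module.finrank_fin_fun]
      rw [← Char.character_inv ρ, h5 _ _ hc, h5 _ _ hd]
      linear_combination (n : ℂ) * n * hcd
    · rw [character_eq_zero ρ hM hcomm m.2 hm, zero_mul]
  have hcardZ : (Finset.univ.filter fun m : M => (m : G) ∈ scalars ρ).card =
      Nat.card (scalars ρ) := by
    rw [← Fintype.card_subtype, ← Nat.card_eq_fintype_card]
    exact Nat.card_congr (Subgroup.subgroupOfEquivOfLe hZM).toEquiv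
  rw [classInner] at h1
  simp only [h2] at h1
  rw [← Finset.sum_filter, Finset.sum_const, hcardZ, nsmul_eq_mul,
    inv_mul_eq_iff_eq_mul₀ Char.card_ne_zero] at h1
  have h6 : Nat.card (scalars ρ) * (n * n) = Nat.card M * (e * e) := by exact_mod_cast h1
  have he : 0 < e := Nat.pos_of_ne_zero fun h0 => by subst h0; simp at hae; omega
  refine Nat.eq_of_mul_eq_mul_right (mul_pos he he) ?_
  rw [← h6]
  subst hae
  ring

end

/-- The operator of the left factor on rows. -/
noncomputable def Split.L {ρ : Representation ℂ G (Fin n → ℂ)} {M : Subgroup G} [M.Normal]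
    {a e : ℕ} (D : Split ρ M a e) (g : G) : Module.End ℂ (Fin a → ℂ) :=
  Matrix.vecMulLinear (D.P g : Matrix (Fin a) (Fin a) ℂ)

namespace Split

variable {ρ : Representation ℂ G (Fin n → ℂ)} {M : Subgroup G} [M.Normal] {a e : ℕ}
  (D : Split ρ M a e)
include D

theorem nontrivial_a : Nontrivial (Module.End ℂ (Fin a → ℂ)) := by
  have : Nonempty (Fin a) := ⟨⟨0, D.a_pos⟩⟩
  infer_instance

theorem L_apply (g : G) (v : Fin a → ℂ) :
    D.L g v = v ᵥ* (D.P g : Matrix (Fin a) (Fin a) ℂ) := rfl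

theorem isUnit_L (g : G) : IsUnit (D.L g) := by
  refine ⟨⟨D.L g, Matrix.vecMulLinear ((↑(D.P g)⁻¹ : Matrix (Fin a) (Fin a) ℂ)), ?_, ?_⟩, rfl⟩
  · refine LinearMap.ext fun v => ?_
    simp [L, Matrix.vecMul_vecMul]
  · refine LinearMap.ext fun v => ?_
    simp [L, Matrix.vecMul_vecMul]

theorem L_mul (g h : G) : ∃ c : ℂ, c ≠ 0 ∧ D.L h * D.L g = c • D.L (g * h) := by
  have := D.nontrivial_a
  obtain ⟨c, hc⟩ := D.P_mul g h
  have h1 : D.L h * D.L g = c • D.L (g * h) := by
    refine LinearMap.ext fun v => ?_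
    simp only [L, LinearMap.smul_apply, Module.End.mul_apply, Matrix.vecMulLinear_apply,
      Matrix.vecMul_vecMul, hc, Matrix.vecMul_smul]
  exact ⟨c, ne_zero_of_isUnit_smul (h1 ▸ (D.isUnit_L h).mul (D.isUnit_L g)), h1⟩

theorem L_of_scalar {g : G} (hg : g ∈ scalars ρ) : ∃ c : ℂ, c ≠ 0 ∧ D.L g = c • 1 := by
  have := D.nontrivial_a
  obtain ⟨d, hd⟩ := hg
  obtain ⟨c, hc⟩ := D.P_of_scalar hd
  have h1 : D.L g = c • 1 := by
    refine LinearMap.ext fun v => ?_
    simp only [L, Matrix.vecMulLinear_apply, hc, Matrix.vecMul_smul, Matrix.vecMul_one,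
      LinearMap.smul_apply, Module.End.one_apply]
  exact ⟨c, ne_zero_of_isUnit_smul (h1 ▸ D.isUnit_L g), h1⟩

theorem isProj_L (H : Subgroup G) : IsProj (G := H) (fun h => D.L ((h : G)⁻¹)) := by
  constructor
  · intro g h
    obtain ⟨c, hc, h1⟩ := D.L_mul (h : G)⁻¹ (g : G)⁻¹
    refine ⟨c⁻¹, inv_ne_zero hc, ?_⟩
    rw [h1, inv_smul_smul₀ hc, Subgroup.coe_mul, mul_inv_rev]
  · simpa using D.L_of_scalar (scalars ρ).one_mem

theorem L_pow (g : G) (k : ℕ) : ∃ c : ℂ, c ≠ 0 ∧ D.L g ^ k = c • D.L (g ^ k) := by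
  induction k with
  | zero =>
    obtain ⟨c, hc, h⟩ := D.L_of_scalar (scalars ρ).one_mem
    exact ⟨c⁻¹, inv_ne_zero hc, by rw [pow_zero, pow_zero, h, inv_smul_smul₀ hc]⟩
  | succ k ih =>
    obtain ⟨c, hc, h⟩ := ih
    obtain ⟨d, hd, h'⟩ := D.L_mul g (g ^ k)
    refine ⟨c * d, mul_ne_zero hc hd, ?_⟩
    rw [pow_succ, h, smul_mul_assoc, h', smul_smul, pow_succ']

theorem det_L_ne_zero (g : G) : LinearMap.det (D.L g) ≠ 0 :=
  ((D.isUnit_L g).map LinearMap.det).ne_zero

/-- If all of `N` acts by scalars on the left then it centralises `M` modulo the scalars. -/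
theorem comm_of_L_scalar {x : G} {c : ℂ} (hx : D.L x = c • 1) (m : G) (hm : m ∈ M) :
    x * m * x⁻¹ * m⁻¹ ∈ scalars ρ := by
  have := D.nontrivial_a
  have hc : c ≠ 0 := ne_zero_of_isUnit_smul (hx ▸ D.isUnit_L x)
  have hP : (D.P x : Matrix (Fin a) (Fin a) ℂ) = c • 1 := by
    refine Matrix.ext_of_single_vecMul fun i => ?_
    rw [← L_apply, hx, LinearMap.smul_apply, Module.End.one_apply, Matrix.vecMul_smul,
      Matrix.vecMul_one]
  have hm' : x * m * x⁻¹ ∈ M := (inferInstance : M.Normal).conj_mem m hm x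
  have h1 := D.P_conj x ⟨m, hm⟩
  rw [hP, Matrix.smul_mul, Matrix.one_mul, Matrix.mul_smul, Matrix.mul_one] at h1
  have h2 : D.S ⟨m, hm⟩ = D.S ⟨x * m * x⁻¹, hm'⟩ := smul_right_injective _ hc h1
  have h3 : ρ (x * m * x⁻¹) = ρ m := by
    refine LinearMap.ext fun w => ?_
    obtain ⟨X, rfl⟩ := D.Φ.surjective w
    rw [← D.hΦ ⟨_, hm'⟩, ← D.hΦ ⟨m, hm⟩, h2]
  refine ⟨1, ?_⟩
  rw [map_mul, h3, ← map_mul, mul_inv_cancel, map_one, one_smul]

theorem R_of_scalar (hZM : scalars ρ ≤ M) {g : G} (hg : g ∈ scalars ρ) :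
    ∃ c : ℂ, c ≠ 0 ∧ D.R g = c • 1 :=
  D.R_mem g (hZM hg)

/-- The case of a subgroup complementing `M` modulo the scalars. -/
theorem false_of_complement (IH : NoBlock.{u} e) (hirr : ρ.IsIrreducible)
    (hsol : Group.IsSolvable (G ⧸ M)) (hiso : ∀ N : Subgroup G, N.Normal → Isotypic ρ N)
    (ha : 1 < a) (H N₀ : Subgroup G) (hZH : scalars ρ ≤ H) (hsup : H ⊔ M = ⊤)
    (hinf : H ⊓ M ≤ scalars ρ) (hN₀H : N₀ ≤ H) (hinv : ∀ h ∈ H, ∀ x ∈ N₀, h * x * h⁻¹ ∈ N₀)
    (hcomm : ∀ x ∈ N₀, ∀ y ∈ N₀, x * y * x⁻¹ * y⁻¹ ∈ scalars ρ) {q : ℕ} (hq : q.Prime)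
    (hexp : ∀ x ∈ N₀, x ^ q ∈ scalars ρ) (hqa : a.Coprime q)
    (hns : ∃ x ∈ N₀, ∃ m ∈ M, x * m * x⁻¹ * m⁻¹ ∉ scalars ρ)
    (X : Submodule ℂ (Fin n → ℂ)) (hX0 : X ≠ ⊥) (hXH : ∀ h ∈ H, ∀ x ∈ X, ρ h x ∈ X)
    (hdim : finrank ℂ X * a ≤ e) : False := by
  classical
  have := D.nontrivial_a
  -- the left factors of `N₀` commute
  have hLc : ∀ x ∈ N₀, ∀ y ∈ N₀, Commute (D.L x) (D.L y) := by
    intro x hx y hy
    obtain ⟨c₁, hc₁, h₁⟩ := D.L_mul x y
    obtain ⟨c₂, hc₂, h₂⟩ := D.L_mul y x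
    obtain ⟨c₃, hc₃, h₃⟩ := D.L_mul (x * y * x⁻¹ * y⁻¹) (y * x)
    obtain ⟨c₄, hc₄, h₄⟩ := D.L_of_scalar (hcomm x hx y hy)
    rw [h₄, mul_smul_comm, mul_one, show x * y * x⁻¹ * y⁻¹ * (y * x) = x * y by group] at h₃
    obtain ⟨c, hc, hxy⟩ : ∃ c : ℂ, c ≠ 0 ∧ D.L x * D.L y = c • (D.L y * D.L x) := by
      refine ⟨c₂ * c₄⁻¹ * c₃ * c₁⁻¹, by
        simp [mul_ne_zero_iff, hc₁, hc₂, hc₃, hc₄], ?_⟩
      rw [h₁, h₂, smul_smul, mul_assoc _ c₁⁻¹, inv_mul_cancel₀ hc₁, mul_one, mul_smul, ← h₃,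
        smul_smul, mul_assoc c₂, inv_mul_cancel₀ hc₄, mul_one]
    have hca : c ^ a = 1 := by
      have h := congrArg LinearMap.det hxy
      rw [map_mul, LinearMap.det_smul, map_mul, Module.finrank_fin_fun] at h
      have h0 := mul_ne_zero (D.det_L_ne_zero y) (D.det_L_ne_zero x)
      exact mul_right_cancel₀ h0 (by rw [one_mul, ← h, mul_comm])
    have hcq : c ^ q = 1 := by
      have hk : ∀ k : ℕ, D.L x ^ k * D.L y = c ^ k • (D.L y * D.L x ^ k) := by
        intro k
        induction k with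
        | zero => simp
        | succ k ih =>
          rw [pow_succ, mul_assoc, hxy, mul_smul_comm, ← mul_assoc, ih, smul_mul_assoc,
            mul_assoc (D.L y), smul_smul, ← pow_succ']
      obtain ⟨d, hd, h⟩ := D.L_pow x q
      obtain ⟨d', hd', h'⟩ := D.L_of_scalar (hexp x hx)
      have h5 := hk q
      rw [h, h', smul_smul, smul_mul_assoc, one_mul, mul_smul_comm, mul_one, smul_smul] at h5
      have h6 : (d * d') • D.L y = (c ^ q * (d * d')) • D.L y := h5
      have h7 := smul_left_injective ℂ (D.isUnit_L y).ne_zero h6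
      exact mul_right_cancel₀ (mul_ne_zero hd hd') (h7.symm.trans (one_mul _).symm)
    have hc1 : c = 1 := by
      have := pow_gcd_eq_one.2 ⟨hca, hcq⟩
      rwa [hqa.gcd_eq_one, pow_one] at this
    rw [hc1, one_smul] at hxy
    exact hxy
  -- they are diagonalisable
  let f : N₀ → Module.End ℂ (Fin a → ℂ) := fun i => D.L i
  have hss : ∀ i, (f i).IsSemisimple := by
    intro i
    obtain ⟨d, hd, h⟩ := D.L_pow i q
    obtain ⟨d', hd', h'⟩ := D.L_of_scalar (hexp i i.2)
    refine Module.End.isSemisimple_of_squarefree_aeval_eq_zero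
      (p := Polynomial.X ^ q - Polynomial.C (d * d'))
      (Polynomial.separable_X_pow_sub_C _ (Nat.cast_ne_zero.2 hq.ne_zero)
        (mul_ne_zero hd hd')).squarefree ?_
    rw [map_sub, Polynomial.aeval_X_pow, Polynomial.aeval_C, h, h', smul_smul,
      Algebra.algebraMap_eq_smul_one, sub_self]
  let E : (N₀ → ℂ) → Submodule ℂ (Fin a → ℂ) := fun χ => ⨅ i, (f i).maxGenEigenspace (χ i)
  have hmaps : ∀ i j φ, Set.MapsTo (f i) ((f j).maxGenEigenspace φ) ((f j).maxGenEigenspace φ) :=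
    fun i j φ => Module.End.mapsTo_maxGenEigenspace_of_comm (hLc j j.2 i i.2) φ
  have hind : iSupIndep E := Module.End.independent_iInf_maxGenEigenspace_of_forall_mapsTo f hmaps
  have hspan : ⨆ χ, E χ = ⊤ := Module.End.iSup_iInf_maxGenEigenspace_eq_top_of_forall_mapsTo f
    hmaps fun i => Module.End.iSup_maxGenEigenspace_eq_top (f i)
  have hmem : ∀ χ v, v ∈ E χ ↔ ∀ i, f i v = χ i • v := by
    intro χ v
    simp only [E, Submodule.mem_iInf,
      (hss _).isFinitelySemisimple.maxGenEigenspace_eq_eigenspace, Module.End.mem_eigenspace_iff]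
  -- one of the eigenspaces meets the invariant subspace
  let X' : Submodule ℂ (Matrix (Fin a) (Fin e) ℂ) := X.comap D.Φ.toLinearMap
  obtain ⟨χ₀, lam₀, hlam₀, Z₀, hZ₀, hne⟩ :
      ∃ χ, ∃ v ∈ E χ, ∃ Z ∈ X', v ᵥ* Z ≠ 0 := by
    by_contra! h
    apply hX0
    refine eq_bot_iff.2 fun x hx => ?_
    obtain ⟨Z, rfl⟩ := D.Φ.surjective x
    let kill : Submodule ℂ (Fin a → ℂ) := LinearMap.ker (Matrix.vecMulLinear Z)
    have hk : (⊤ : Submodule ℂ (Fin a → ℂ)) ≤ kill := hspan ▸ iSup_le fun χ v hv => h χ v hv Z hx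
    have hZ : Z = 0 := Matrix.ext_of_single_vecMul fun i => by
      rw [Matrix.vecMul_zero]
      exact hk Submodule.mem_top
    simp [hZ]
  set Lam := E χ₀ with hLam
  have hLam0 : Lam ≠ ⊥ := fun h => by
    rw [h, Submodule.mem_bot] at hlam₀
    exact hne (by rw [hlam₀, Matrix.zero_vecMul])
  have hLamlt : finrank ℂ Lam < a := by
    refine lt_of_lt_of_eq (Submodule.finrank_lt fun htop => ?_) (Module.finrank_fin_fun ℂ)
    obtain ⟨x, hx, m, hm, hxm⟩ := hns
    refine hxm (D.comm_of_L_scalar (c := χ₀ ⟨x, hx⟩) (LinearMap.ext fun v => ?_) m hm)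
    exact (hmem χ₀ v).1 (htop.ge Submodule.mem_top) ⟨x, hx⟩
  -- its translates
  have hf := D.isProj_L H
  have htr : ∀ (h : H) (χ : N₀ → ℂ), ∃ ν, (E χ).map (D.L (h : G)⁻¹) ≤ E ν := by
    intro h χ
    let j : N₀ → N₀ := fun i => ⟨(h : G)⁻¹ * i * (h : G), by
      simpa using hinv (h : G)⁻¹ (H.inv_mem h.2) i i.2⟩
    have hc : ∀ i : N₀, ∃ c : ℂ, f i * D.L (h : G)⁻¹ = c • (D.L (h : G)⁻¹ * f (j i)) := by
      intro i
      obtain ⟨c₁, hc₁, h₁⟩ := D.L_mul (h : G)⁻¹ i
      obtain ⟨c₂, hc₂, h₂⟩ := D.L_mul (j i : G) (h : G)⁻¹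
      refine ⟨c₁ * c₂⁻¹, ?_⟩
      rw [h₂, smul_smul, mul_assoc, inv_mul_cancel₀ hc₂, mul_one, h₁]
      congr 2
      simp [j]
    choose c hc using hc
    refine ⟨fun i => c i * χ (j i), ?_⟩
    rintro _ ⟨v, hv, rfl⟩
    refine (hmem _ _).2 fun i => ?_
    rw [← Module.End.mul_apply, hc, LinearMap.smul_apply, Module.End.mul_apply,
      (hmem χ v).1 hv (j i), map_smul, smul_smul]
  have heq : ∀ h : H, ∃ ν, Lam.map (D.L (h : G)⁻¹) = E ν := by
    intro h
    obtain ⟨ν, hν⟩ := htr h χ₀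
    obtain ⟨ω, hω⟩ := htr h⁻¹ ν
    refine ⟨ν, Submodule.eq_of_le_of_finrank_eq hν (le_antisymm (Submodule.finrank_mono hν) ?_)⟩
    rw [(Submodule.equivMapOfInjective _ (hf.injective h) Lam).finrank_eq.symm,
      (Submodule.equivMapOfInjective _ (hf.injective h⁻¹) (E ν)).finrank_eq]
    refine Submodule.finrank_mono (hω.trans (le_of_eq ?_))
    obtain ⟨v, hv, hv0⟩ := Submodule.exists_mem_ne_zero_of_ne_bot hLam0
    have hv' : v ∈ E ω := by
      obtain ⟨c, hc, hcc⟩ := hf.mul_inv h⁻¹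
      rw [inv_inv] at hcc
      have h1 : D.L ((h⁻¹ : H) : G)⁻¹ (D.L (h : G)⁻¹ v) ∈ E ω :=
        hω (Submodule.mem_map_of_mem (hν (Submodule.mem_map_of_mem hv)))
      rw [← Module.End.mul_apply, hcc, LinearMap.smul_apply, Module.End.one_apply] at h1
      have h2 := (E ω).smul_mem c⁻¹ h1
      rwa [inv_smul_smul₀ hc] at h2
    exact congrArg E (funext fun i => smul_left_injective ℂ hv0
      (((hmem ω v).1 hv' i).symm.trans ((hmem χ₀ v).1 hv i)))
  let _ : MulAction H (Submodule ℂ (Fin a → ℂ)) := hf.subAction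
  let O : Set (Submodule ℂ (Fin a → ℂ)) := MulAction.orbit H Lam
  have hO : O.Finite := Set.finite_range _
  have hbound : finrank ℂ Lam * (hf.stab Lam).index ≤ a := by
    have hν : ∀ W : O, ∃ ν, (W : Submodule ℂ (Fin a → ℂ)) = E ν := by
      rintro ⟨_, h, rfl⟩
      exact heq h
    choose ν hν using hν
    have hνinj : Function.Injective ν := fun W W' hW => Subtype.ext (by rw [hν W, hν W', hW])
    have hindO : iSupIndep (fun W : O => (W : Submodule ℂ (Fin a → ℂ))) := by
      rw [show (fun W : O => (W : Submodule ℂ (Fin a → ℂ))) = E ∘ ν from funext hν]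
      exact hind.comp hνinj
    have := hO.fintype
    have h1 : finrank ℂ ((Finset.univ : Finset O).sup
        (fun W : O => (W : Submodule ℂ (Fin a → ℂ))) : Submodule ℂ (Fin a → ℂ)) ≤ a :=
      le_trans (Submodule.finrank_le _) (Module.finrank_fin_fun ℂ).le
    rw [finrank_finsetSup_eq _ _ hindO] at h1
    have h2 : ∀ W : O, finrank ℂ (W : Submodule ℂ (Fin a → ℂ)) = finrank ℂ Lam := by
      rintro ⟨_, h, rfl⟩
      exact (Submodule.equivMapOfInjective _ (hf.injective h) Lam).finrank_eq.symm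
    rw [Finset.sum_congr rfl fun W _ => h2 W, Finset.sum_const, smul_eq_mul, Finset.card_univ,
      ← Nat.card_eq_fintype_card, Nat.card_coe_set_eq, ← MulAction.index_stabilizer H Lam] at h1
    rw [mul_comm]
    exact h1
  -- the space of rows
  let B : (Fin a → ℂ) →ₗ[ℂ] Matrix (Fin a) (Fin e) ℂ →ₗ[ℂ] (Fin e → ℂ) :=
    LinearMap.mk₂ ℂ (fun v Z => v ᵥ* Z) (fun v w Z => Matrix.add_vecMul Z v w)
      (fun c v Z => Matrix.smul_vecMul c v Z) (fun v Z Z' => Matrix.vecMul_add Z Z' v)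
      (fun c v Z => Matrix.vecMul_smul v c Z)
  let Y : Submodule ℂ (Fin e → ℂ) :=
    LinearMap.range (TensorProduct.lift (B.compl₁₂ Lam.subtype X'.subtype))
  have hY0 : Y ≠ ⊥ := fun h => hne <| by
    have h1 : lam₀ ᵥ* Z₀ ∈ Y := ⟨(⟨lam₀, hlam₀⟩ : Lam) ⊗ₜ (⟨Z₀, hZ₀⟩ : X'), rfl⟩
    rwa [h, Submodule.mem_bot] at h1
  have hYdim : finrank ℂ Y ≤ finrank ℂ Lam * finrank ℂ X := by
    refine (LinearMap.finrank_range_le _).trans (le_of_eq ?_)
    rw [Module.finrank_tensorProduct,
      (D.Φ.ofSubmodule' X).finrank_eq]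
  let KG : Subgroup G := (hf.stab Lam).map H.subtype
  have hKY : KG ⊔ M ≤ D.isProj_R.stab Y := by
    refine sup_le ?_ fun m hm => D.isProj_R.mem_stab_of_le fun v hv => ?_
    · rintro _ ⟨k, hk, rfl⟩
      refine D.isProj_R.mem_stab_of_le fun v hv => ?_
      obtain ⟨t, rfl⟩ := hv
      induction t using TensorProduct.induction_on with
      | zero => simp
      | add t t' ht ht' => rw [map_add, map_add]; exact Y.add_mem ht ht'
      | tmul lm Z =>
        have hL : Lam.map (D.L (k : G)) = Lam := by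
          simpa using hf.mem_stab.1 ((hf.stab Lam).inv_mem hk)
        obtain ⟨μ, hμ, hμl⟩ : ∃ μ ∈ Lam, D.L (k : G) μ = lm := hL.ge lm.2
        have hTZ : D.T (k : G) Z ∈ X' := by
          show D.Φ (D.T (k : G) Z) ∈ X
          rw [D.Φ_T]
          exact hXH k k.2 _ Z.2
        refine ⟨(⟨μ, hμ⟩ : Lam) ⊗ₜ (⟨_, hTZ⟩ : X'), ?_⟩
        show μ ᵥ* D.T (k : G) Z = D.R (k : G) ((lm : Fin a → ℂ) ᵥ* (Z : Matrix (Fin a) (Fin e) ℂ))
        rw [R_apply, ← hμl, L_apply, T_eq, Matrix.vecMul_vecMul, Matrix.vecMul_vecMul,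
          Matrix.mul_assoc]
    · obtain ⟨c, -, hc⟩ := D.R_mem m hm
      rw [hc]
      exact Y.smul_mem c hv
  have hidx : (KG ⊔ M).index ≤ (hf.stab Lam).index := by
    rw [Subgroup.index, Subgroup.index]
    refine Nat.card_le_card_of_surjective
      (Quotient.map' (fun h : H => (h : G)) fun h h' hh => ?_) fun x => ?_
    · rw [QuotientGroup.leftRel_apply] at hh ⊢
      exact Subgroup.mem_sup_left ⟨_, hh, rfl⟩
    · obtain ⟨g, rfl⟩ := Quotient.mk_surjective x
      obtain ⟨h, hh, m, hm, rfl⟩ := Subgroup.mem_sup_of_normal_right.1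
        (hsup ▸ Subgroup.mem_top g)
      exact ⟨QuotientGroup.mk ⟨h, hh⟩, QuotientGroup.eq.2 (Subgroup.mem_sup_right (by simpa using hm))⟩
  have hXpos : 0 < finrank ℂ X :=
    Nat.pos_of_ne_zero fun h => hX0 (Submodule.finrank_eq_zero.1 h)
  by_cases htop : KG ⊔ M = ⊤
  · have h2 : D.isProj_R.stab Y = ⊤ := top_unique (htop ▸ hKY)
    rcases D.R_irreducible hirr (W := Y) (fun g v hv => D.isProj_R.map_mem
      (h2 ▸ Subgroup.mem_top g) hv) with h | h
    · exact hY0 h
    · rw [h, finrank_top, Module.finrank_fin_fun] at hYdim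
      have : finrank ℂ Lam * finrank ℂ X < a * finrank ℂ X :=
        Nat.mul_lt_mul_of_pos_right hLamlt hXpos
      rw [mul_comm] at hdim
      omega
  · refine D.false_of_noBlock IH hirr hsol (fun N hN _ => hiso N hN) (KG ⊔ M) le_sup_right htop Y
      hY0 (fun k hk v hv => D.isProj_R.map_mem (hKY hk) hv) ?_
    calc finrank ℂ Y * (KG ⊔ M).index
        ≤ finrank ℂ Lam * finrank ℂ X * (hf.stab Lam).index := Nat.mul_le_mul hYdim hidx
      _ = finrank ℂ Lam * (hf.stab Lam).index * finrank ℂ X := by ring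
      _ ≤ a * finrank ℂ X := Nat.mul_le_mul_right _ hbound
      _ ≤ e := by rwa [mul_comm]

end Split

theorem noBlock : ∀ n, NoBlock.{u} n := by
  intro n
  induction n using Nat.strong_induction_on with
  | _ n IH =>
  intro G _ _ hsolG ρ hirr hiso K hK X₀ hX₀ hXK
  classical
  by_contra! hle
  have hn : 0 < n := by
    have h := Submodule.one_le_finrank_iff.2 hX₀
    have := Submodule.finrank_le X₀
    rw [Module.finrank_fin_fun] at this
    omega
  -- enlarge the subgroup to a maximal one containing the scalars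
  have hρp := isProj_rep ρ
  have hstab : K ⊔ scalars ρ ≤ hρp.stab X₀ := by
    refine sup_le (fun k hk => hρp.mem_stab_of_le (hXK k hk)) fun z hz =>
      hρp.mem_stab_of_le fun x hx => ?_
    obtain ⟨c, hc⟩ := hz
    rw [hc]
    exact X₀.smul_mem c hx
  have hidx_pos : ∀ L : Subgroup G, L ≠ ⊤ → 2 ≤ L.index := fun L hL => by
    have h1 : L.index ≠ 0 := Subgroup.index_ne_zero_of_finite
    have h2 : L.index ≠ 1 := fun h => hL (Subgroup.index_eq_one.1 h)
    omega
  have hKZ : K ⊔ scalars ρ ≠ ⊤ := fun h => by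
    rcases (Char.isIrreducible_iff.1 hirr).2 X₀ (fun g x hx =>
      hρp.map_mem (hstab (h ▸ Subgroup.mem_top g)) hx) with h' | h'
    · exact hX₀ h'
    · rw [h', finrank_top, Module.finrank_fin_fun] at hle
      nlinarith [hidx_pos K hK]
  have : Finite (Subgroup G) := Finite.of_injective _ SetLike.coe_injective
  obtain ⟨H, hH, hKH⟩ := (eq_top_or_exists_le_coatom (K ⊔ scalars ρ)).resolve_left hKZ
  obtain ⟨X, hXX, hXH, hXdim⟩ := exists_translate_sum hρp (H := H) hXK
  have hX0 : X ≠ ⊥ := fun h => hX₀ (eq_bot_iff.2 (h ▸ hXX))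
  have hle' : finrank ℂ X * H.index ≤ n := by
    refine le_trans ?_ hle
    calc finrank ℂ X * H.index ≤ K.relIndex H * finrank ℂ X₀ * H.index :=
          Nat.mul_le_mul_right _ hXdim
      _ = finrank ℂ X₀ * (K.relIndex H * H.index) := by ring
      _ = finrank ℂ X₀ * K.index := by
        rw [Subgroup.relIndex_mul_index (le_sup_left.trans hKH)]
  have hZH : scalars ρ ≤ H := le_sup_right.trans hKH
  have hidx2 := hidx_pos H hH.1
  have hXpos : 1 ≤ finrank ℂ X := Submodule.one_le_finrank_iff.2 hX0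
  -- the quotient by the scalars
  set π := QuotientGroup.mk' (scalars ρ) with hπ
  have hπk : π.ker = scalars ρ := QuotientGroup.ker_mk' _
  have hcm : ∀ S : Subgroup G, scalars ρ ≤ S → (S.map π).comap π = S := fun S hS =>
    Subgroup.comap_map_eq_self (by rwa [hπk])
  have hmemS : ∀ S : Subgroup G, scalars ρ ≤ S → ∀ x, π x ∈ S.map π → x ∈ S := fun S hS x hx =>
    (hcm S hS).le hx
  have hcommQ : ∀ x y : G, π x * π y = π y * π x → x * y * x⁻¹ * y⁻¹ ∈ scalars ρ := by
    intro x y hxy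
    rw [← hπk, MonoidHom.mem_ker, map_mul, map_mul, map_mul, map_inv, map_inv, hxy,
      mul_inv_cancel_right, mul_inv_cancel]
  -- facts about a normal subgroup minimal over the scalars
  have step : ∀ M : Subgroup G, M.Normal → scalars ρ < M →
      (∀ N : Subgroup G, N.Normal → scalars ρ < N → N ≤ M → N = M) →
      (∀ N : Subgroup (G ⧸ scalars ρ), N.Normal → N ≤ M.map π → N = ⊥ ∨ N = M.map π) ∧
      (∀ x ∈ M.map π, ∀ y ∈ M.map π, x * y = y * x) ∧
      ∃ (a e : ℕ), Nonempty (Split ρ M a e) ∧ n = a * e ∧ 1 < a ∧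
        Nat.card M = Nat.card (scalars ρ) * (a * a) := by
    intro M hMn hlt hmin
    have hminQ : ∀ N : Subgroup (G ⧸ scalars ρ), N.Normal → N ≤ M.map π →
        N = ⊥ ∨ N = M.map π := by
      intro N hN hNM
      have hcomap : (N.comap π).map π = N :=
        Subgroup.map_comap_eq_self_of_surjective (QuotientGroup.mk'_surjective _) N
      have h1 : scalars ρ ≤ N.comap π := fun z hz => by
        show π z ∈ N
        rw [show π z = 1 from (QuotientGroup.eq_one_iff z).2 hz]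
        exact N.one_mem
      rcases h1.eq_or_lt with h | h
      · left
        rw [← hcomap, ← h, Subgroup.map_eq_bot_iff, hπk]
      · right
        rw [← hcomap, hmin _ (hN.comap π) h fun x hx => hmemS M hlt.le x (hNM hx)]
    have : Group.IsSolvable (G ⧸ scalars ρ) := inferInstance
    have hne : M.map π ≠ ⊥ := fun h => hlt.not_ge (by rwa [Subgroup.map_eq_bot_iff, hπk] at h)
    have hcomm := comm_of_minimal (H := (⊤ : Subgroup (G ⧸ scalars ρ)))
      (fun h _ x hx => (hMn.map π (QuotientGroup.mk'_surjective _)).conj_mem x hx h) hne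
      (fun S hS hinv => hminQ S ⟨fun x hx g => hinv g (Subgroup.mem_top g) x hx⟩ hS)
    refine ⟨hminQ, hcomm, ?_⟩
    have hcomm' : ∀ x ∈ M, ∀ y ∈ M, x * y * x⁻¹ * y⁻¹ ∈ scalars ρ := fun x hx y hy =>
      hcommQ x y (hcomm _ ⟨x, hx, rfl⟩ _ ⟨y, hy, rfl⟩)
    obtain ⟨θ, e, hθ, hχ⟩ := exists_eq_of_isotypic ρ hn M (hiso M hMn)
    obtain ⟨a, ha1, hae, hD⟩ := exists_split ρ hn M hθ hχ
    have hcard := card_eq_of_commutators ρ hn hlt.le (hiso M hMn) hcomm' hθ hae hχ
    refine ⟨a, e, hD, hae, ?_, hcard⟩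
    rcases Nat.lt_or_ge 1 a with ha | ha
    · exact ha
    · exfalso
      have ha' : 0 < a := Nat.pos_of_ne_zero fun h => by subst h; simp at hae; omega
      obtain rfl : a = 1 := by omega
      rw [mul_one, mul_one] at hcard
      exact hlt.ne (Subgroup.eq_of_le_of_card_ge hlt.le hcard.le)
  have hwf : WellFoundedLT (Subgroup G) := Finite.to_wellFoundedLT
  by_cases hA : ∃ M : Subgroup G, M.Normal ∧ scalars ρ < M ∧ M ≤ H
  · -- a normal subgroup inside
    obtain ⟨M, ⟨hMn, hlt, hMH⟩, hMmin⟩ := wellFounded_lt.has_min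
      {M : Subgroup G | M.Normal ∧ scalars ρ < M ∧ M ≤ H} hA
    obtain ⟨-, -, a, e, ⟨D⟩, hae, ha, -⟩ := step M hMn hlt fun N hN hN' hNM =>
      (eq_or_lt_of_le hNM).resolve_right (hMmin N ⟨hN, hN', hNM.trans hMH⟩)
    obtain ⟨Y, hY0, hYH, hYdim⟩ := D.exists_rowSpace hMH hX0 hXH
    have hen : e < n := by rw [hae]; exact lt_mul_left D.e_pos ha
    refine D.false_of_noBlock (IH e hen) hirr inferInstance (fun N hN _ => hiso N hN) H hMH hH.1 Y
      hY0 hYH ?_
    refine Nat.le_of_mul_le_mul_left ?_ D.a_pos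
    calc a * (finrank ℂ Y * H.index) = a * finrank ℂ Y * H.index := by ring
      _ ≤ finrank ℂ X * H.index := Nat.mul_le_mul_right _ hYdim
      _ ≤ n := hle'
      _ = a * e := hae
  · -- the scalars are the core
    push Not at hA
    obtain ⟨M, ⟨hMn, hlt⟩, hMmin⟩ := wellFounded_lt.has_min
      {M : Subgroup G | M.Normal ∧ scalars ρ < M}
      ⟨⊤, inferInstance, lt_top_iff_ne_top.2 fun h => hH.1 (top_unique (h ▸ hZH))⟩
    obtain ⟨hminQ, hcomm, a, e, ⟨D⟩, hae, ha, hcard⟩ := step M hMn hlt fun N hN hN' hNM =>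
      (eq_or_lt_of_le hNM).resolve_right (hMmin N ⟨hN, hN'⟩)
    have hen : e < n := by rw [hae]; exact lt_mul_left D.e_pos ha
    have hsup : H ⊔ M = ⊤ := hH.2 _ (lt_of_le_of_ne le_sup_left fun h =>
      hA M hMn hlt (h ▸ le_sup_right))
    have hsupQ : H.map π ⊔ M.map π = ⊤ := by
      rw [← Subgroup.map_sup, hsup,
        Subgroup.map_top_of_surjective π (QuotientGroup.mk'_surjective _)]
    have hMQ : (M.map π).Normal := hMn.map π (QuotientGroup.mk'_surjective _)
    have hcore : ∀ N : Subgroup (G ⧸ scalars ρ), N.Normal → N ≤ H.map π → N = ⊥ := by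
      intro N hN hNH
      have hcomap : (N.comap π).map π = N :=
        Subgroup.map_comap_eq_self_of_surjective (QuotientGroup.mk'_surjective _) N
      have h1 : scalars ρ ≤ N.comap π := fun z hz => by
        show π z ∈ N
        rw [show π z = 1 from (QuotientGroup.eq_one_iff z).2 hz]
        exact N.one_mem
      rcases h1.eq_or_lt with h | h
      · rw [← hcomap, ← h, Subgroup.map_eq_bot_iff, hπk]
      · exact absurd (fun x hx => hmemS H hZH x (hNH hx)) (hA _ (hN.comap π) h)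
    have hinfn : (H.map π ⊓ M.map π).Normal := normal_of_sup hsupQ
      (fun h hh x hx => ⟨(H.map π).mul_mem ((H.map π).mul_mem hh hx.1) ((H.map π).inv_mem hh),
        hMQ.conj_mem x hx.2 h⟩)
      fun m hm x hx => by rw [hcomm m hm x hx.2, mul_inv_cancel_right]; exact hx
    have hinf : H ⊓ M ≤ scalars ρ := fun x hx => by
      have h2 : π x ∈ H.map π ⊓ M.map π := ⟨⟨x, hx.1, rfl⟩, ⟨x, hx.2, rfl⟩⟩
      rw [hcore _ hinfn inf_le_left, Subgroup.mem_bot] at h2
      exact (QuotientGroup.eq_one_iff x).1 h2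
    -- `[G : H] = [M : Z]`
    have hHidx : H.index = a * a := by
      have h1 : H.index = H.relIndex M := by
        rw [Subgroup.relIndex, Subgroup.index, Subgroup.index]
        refine (Nat.card_congr (Equiv.ofBijective
          (Quotient.map' (fun m : M => (m : G)) fun m m' h => ?_) ⟨fun x y hxy => ?_, fun x => ?_⟩)).symm
        · rw [QuotientGroup.leftRel_apply] at h ⊢
          exact h
        · obtain ⟨m, rfl⟩ := Quotient.mk_surjective x
          obtain ⟨m', rfl⟩ := Quotient.mk_surjective y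
          exact QuotientGroup.eq.2 (QuotientGroup.eq.1 hxy :)
        · obtain ⟨g, rfl⟩ := Quotient.mk_surjective x
          obtain ⟨h, hh, m, hm, rfl⟩ := Subgroup.mem_sup_of_normal_right.1
            (hsup ▸ Subgroup.mem_top g)
          refine ⟨QuotientGroup.mk ⟨h * m * h⁻¹, hMn.conj_mem m hm h⟩, QuotientGroup.eq.2 ?_⟩
          simpa [mul_assoc] using hh
      have h2 : (H ⊓ M : Subgroup G) = scalars ρ := le_antisymm hinf (le_inf hZH hlt.le)
      have h3 := Subgroup.relIndex_mul_relIndex ⊥ (scalars ρ) M bot_le hlt.le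
      rw [Subgroup.relIndex_bot_left, Subgroup.relIndex_bot_left, hcard] at h3
      rw [h1, ← Subgroup.inf_relIndex_right, h2]
      exact Nat.eq_of_mul_eq_mul_left Nat.card_pos h3
    have hdim : finrank ℂ X * a ≤ e := by
      refine Nat.le_of_mul_le_mul_left ?_ D.a_pos
      calc a * (finrank ℂ X * a) = finrank ℂ X * H.index := by rw [hHidx]; ring
        _ ≤ n := hle'
        _ = a * e := hae
    by_cases hHbot : H.map π = ⊥
    · -- only scalars outside `M`
      have hHZ : H ≤ M := fun x hx => hlt.le (by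
        rw [← hπk]; exact (Subgroup.map_eq_bot_iff H).1 hHbot hx)
      have hMtop : M = ⊤ := by rwa [sup_eq_right.2 hHZ] at hsup
      have hall : ∀ W : Submodule ℂ (Fin e → ℂ), W = ⊥ ∨ W = ⊤ := fun W =>
        D.R_irreducible hirr fun g v hv => by
          obtain ⟨c, -, hc⟩ := D.R_mem g (hMtop ▸ Subgroup.mem_top g)
          rw [hc]
          exact W.smul_mem c hv
      have he1 : e = 1 := by
        let v : Fin e → ℂ := fun _ => 1
        have hv : v ≠ 0 := fun h => one_ne_zero (congrFun h ⟨0, D.e_pos⟩)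
        rcases hall (Submodule.span ℂ {v}) with h | h
        · exact absurd ((Submodule.span_singleton_eq_bot).1 h) hv
        · have h1 := finrank_span_singleton (K := ℂ) hv
          rw [h, finrank_top, Module.finrank_fin_fun] at h1
          exact h1
      have h1 : a * 1 ≤ finrank ℂ X * a := by
        rw [mul_one]; exact Nat.le_mul_of_pos_left a hXpos
      omega
    · obtain ⟨q, N, hq, hNH, hNinv, hNab, hNexp, hqM, x₁, hx₁, m₁, hm₁, hne⟩ :=
        complement_step (H.map π) (M.map π) hcomm hsupQ hminQ hcore hHbot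
      have hqa : a.Coprime q := by
        refine (Nat.coprime_comm.1 (hq.coprime_iff_not_dvd.2 fun h => hqM ?_))
        have h1 : Nat.card M = Nat.card (M.map π) * Nat.card (scalars ρ) := by
          have h2 := Subgroup.relIndex_mul_relIndex ⊥ (scalars ρ) M bot_le hlt.le
          rw [Subgroup.relIndex_bot_left, Subgroup.relIndex_bot_left] at h2
          rw [← h2, mul_comm, ← Subgroup.relIndex_bot_left (M.map π), ← Subgroup.relIndex_comap,
            MonoidHom.comap_bot, hπk]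
        rw [hcard, mul_comm (Nat.card (M.map π))] at h1
        rw [← Nat.eq_of_mul_eq_mul_left Nat.card_pos h1]
        exact dvd_mul_of_dvd_left h a
      obtain ⟨x₀, hx₀⟩ := QuotientGroup.mk'_surjective (scalars ρ) x₁
      obtain ⟨m₀, hm₀, hm₀'⟩ := hm₁
      refine D.false_of_complement (IH e hen) hirr inferInstance hiso ha H (N.comap π) hZH hsup
        hinf (fun x hx => hmemS H hZH x (hNH hx)) (fun h hh x hx => ?_)
        (fun x hx y hy => hcommQ x y (hNab _ hx _ hy)) hq (fun x hx => ?_) hqa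
        ⟨x₀, ?_, m₀, hm₀, fun h => hne ?_⟩ X hX0 hXH hdim
      · show π (h * x * h⁻¹) ∈ N
        rw [map_mul, map_mul, map_inv]
        exact hNinv _ ⟨h, hh, rfl⟩ _ hx
      · refine (QuotientGroup.eq_one_iff _).1 ?_
        show π (x ^ q) = 1
        rw [map_pow]
        exact hNexp _ hx
      · show π x₀ ∈ N
        rw [show π x₀ = x₁ from hx₀]
        exact hx₁
      · rw [← hπk, MonoidHom.mem_ker, map_mul, map_mul, map_mul, map_inv, map_inv,
          show π x₀ = x₁ from hx₀, hm₀', mul_inv_eq_one, mul_inv_eq_iff_eq_mul] at h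
        exact h

end Cfsg.Agent.ProjExt
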