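import Cfsg.Agent.ProjExt.Isotypic
import Mathlib.LinearAlgebra.Determinant
import Mathlib.GroupTheory.Solvable
import Mathlib.GroupTheory.Index
import Mathlib.RingTheory.Polynomial.Basic
import Mathlib.Analysis.Complex.Polynomial.Basic

/-!
Lines of projective representations, and the finite group covering the right factor of a split
representation.
-/

set_option autoImplicit false

namespace Cfsg.Agent.ProjExt

open Module
open scoped Matrix

universe u v

theorem ne_zero_of_isUnit_smul {A : Type*} [Ring A] [Algebra ℂ A] [Nontrivial A] {c : ℂ} {x : A}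
    (h : IsUnit (c • x)) : c ≠ 0 := by
  rintro rfl
  rw [zero_smul, isUnit_zero_iff] at h
  exact zero_ne_one h

/-- A family of endomorphisms multiplying up to scalars. -/
structure IsProj {G : Type u} [Group G] {V : Type v} [AddCommGroup V] [Module ℂ V]
    (f : G → Module.End ℂ V) : Prop where
  mul : ∀ g h, ∃ c : ℂ, c ≠ 0 ∧ f (g * h) = c • (f g * f h)
  one : ∃ c : ℂ, c ≠ 0 ∧ f 1 = c • 1

namespace IsProj

variable {G : Type u} [Group G] {V : Type v} [AddCommGroup V] [Module ℂ V]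
  {f : G → Module.End ℂ V} (hf : IsProj f)
include hf

theorem mul_inv (g : G) : ∃ c : ℂ, c ≠ 0 ∧ f g * f g⁻¹ = c • 1 := by
  obtain ⟨c, hc, h⟩ := hf.mul g g⁻¹
  obtain ⟨d, hd, h'⟩ := hf.one
  rw [mul_inv_cancel, h'] at h
  exact ⟨c⁻¹ * d, mul_ne_zero (inv_ne_zero hc) hd, by rw [mul_smul, h, inv_smul_smul₀ hc]⟩

theorem injective (g : G) : Function.Injective (f g) := by
  obtain ⟨c, hc, h⟩ := hf.mul_inv g⁻¹
  rw [inv_inv] at h
  intro x y hxy
  have := congrArg (f g⁻¹) hxy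
  rw [← Module.End.mul_apply, ← Module.End.mul_apply, h] at this
  exact smul_right_injective V hc this

/-- The action on subspaces. -/
@[reducible] def subAction : MulAction G (Submodule ℂ V) where
  smul g W := W.map (f g)
  one_smul W := by
    obtain ⟨c, hc, h⟩ := hf.one
    show W.map (f 1) = W
    rw [h, Submodule.map_smul _ _ _ hc, Module.End.one_eq_id, Submodule.map_id]
  mul_smul g k W := by
    obtain ⟨c, hc, h⟩ := hf.mul g k
    show W.map (f (g * k)) = (W.map (f k)).map (f g)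
    rw [h, Submodule.map_smul _ _ _ hc, Module.End.mul_eq_comp, Submodule.map_comp]

/-- The elements leaving a subspace in place. -/
def stab (W : Submodule ℂ V) : Subgroup G :=
  let _ := hf.subAction
  MulAction.stabilizer G W

theorem mem_stab {W : Submodule ℂ V} {g : G} : g ∈ hf.stab W ↔ W.map (f g) = W := Iff.rfl

theorem mem_stab_of_le [FiniteDimensional ℂ V] {W : Submodule ℂ V} {g : G}
    (h : ∀ x ∈ W, f g x ∈ W) : g ∈ hf.stab W := by
  refine hf.mem_stab.2 (Submodule.eq_of_le_of_finrank_eq (Submodule.map_le_iff_le_comap.2 h) ?_)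
  exact (Submodule.equivMapOfInjective _ (hf.injective g) W).finrank_eq.symm

theorem map_mem {W : Submodule ℂ V} {g : G} (h : g ∈ hf.stab W) {x : V} (hx : x ∈ W) :
    f g x ∈ W := by
  have h1 := hf.mem_stab.1 h
  rw [← h1]
  exact Submodule.mem_map_of_mem hx

end IsProj

/-- The matrices with all rows in a subspace. -/
def rowsIn (a : ℕ) {e : ℕ} (W : Submodule ℂ (Fin e → ℂ)) :
    Submodule ℂ (Matrix (Fin a) (Fin e) ℂ) where
  carrier := {X | ∀ i, X i ∈ W}
  add_mem' hX hY i := W.add_mem (hX i) (hY i)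
  zero_mem' _ := W.zero_mem
  smul_mem' c _ hX i := W.smul_mem c (hX i)

/-- An operator applied to every row. -/
def rowMap (a : ℕ) {e : ℕ} (E : Module.End ℂ (Fin e → ℂ)) :
    Matrix (Fin a) (Fin e) ℂ →ₗ[ℂ] Matrix (Fin a) (Fin e) ℂ where
  toFun X := Matrix.of fun i => E (X i)
  map_add' X Y := Matrix.ext fun i j => congrFun (map_add E (X i) (Y i)) j
  map_smul' c X := Matrix.ext fun i j => congrFun (map_smul E c (X i)) j

theorem rowMap_row (a : ℕ) {e : ℕ} (E : Module.End ℂ (Fin e → ℂ))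
    (X : Matrix (Fin a) (Fin e) ℂ) (i : Fin a) : rowMap a E X i = E (X i) := rfl

namespace Split

variable {G : Type u} [Group G] {n a e : ℕ} {ρ : Representation ℂ G (Fin n → ℂ)} {M : Subgroup G}
  [M.Normal] (D : Split ρ M a e)
include D

theorem nontrivial_e : Nontrivial (Module.End ℂ (Fin e → ℂ)) := by
  have : Nonempty (Fin e) := ⟨⟨0, D.e_pos⟩⟩
  infer_instance

/-- The right factor as an operator on rows. -/
noncomputable def R (g : G) : Module.End ℂ (Fin e → ℂ) :=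
  Matrix.vecMulLinear (D.C g : Matrix (Fin e) (Fin e) ℂ)

theorem R_apply (g : G) (v : Fin e → ℂ) : D.R g v = v ᵥ* (D.C g : Matrix (Fin e) (Fin e) ℂ) :=
  rfl

theorem isUnit_R (g : G) : IsUnit (D.R g) := by
  refine ⟨⟨D.R g, Matrix.vecMulLinear ((↑(D.C g)⁻¹ : Matrix (Fin e) (Fin e) ℂ)), ?_, ?_⟩, rfl⟩
  · refine LinearMap.ext fun v => ?_
    simp [R, Matrix.vecMul_vecMul]
  · refine LinearMap.ext fun v => ?_
    simp [R, Matrix.vecMul_vecMul]

theorem R_mul (g h : G) : ∃ c : ℂ, c ≠ 0 ∧ D.R (g * h) = c • (D.R g * D.R h) := by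
  have := D.nontrivial_e
  obtain ⟨c, hc⟩ := D.C_mul g h
  have h1 : D.R (g * h) = c • (D.R g * D.R h) := by
    refine LinearMap.ext fun v => ?_
    simp only [R, LinearMap.smul_apply, Module.End.mul_apply, Matrix.vecMulLinear_apply, hc,
      Matrix.vecMul_smul, Matrix.vecMul_vecMul]
  exact ⟨c, ne_zero_of_isUnit_smul (h1 ▸ D.isUnit_R (g * h)), h1⟩

theorem R_mem (m : G) (hm : m ∈ M) : ∃ c : ℂ, c ≠ 0 ∧ D.R m = c • 1 := by
  have := D.nontrivial_e
  obtain ⟨c, hc⟩ := D.C_mem ⟨m, hm⟩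
  have h1 : D.R m = c • 1 := by
    refine LinearMap.ext fun v => ?_
    simp only [R, Matrix.vecMulLinear_apply, hc, Matrix.vecMul_smul, Matrix.vecMul_one,
      LinearMap.smul_apply, Module.End.one_apply]
  exact ⟨c, ne_zero_of_isUnit_smul (h1 ▸ D.isUnit_R m), h1⟩

theorem isProj_R : IsProj D.R := ⟨D.R_mul, D.R_mem 1 M.one_mem⟩

theorem R_congr {g h : G} (hgh : g⁻¹ * h ∈ M) : ∃ c : ℂ, c ≠ 0 ∧ D.R h = c • D.R g := by
  obtain ⟨c, hc, h1⟩ := D.R_mul g (g⁻¹ * h)
  obtain ⟨d, hd, h2⟩ := D.R_mem _ hgh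
  rw [mul_inv_cancel_left, h2, mul_smul_comm, mul_one, smul_smul] at h1
  exact ⟨_, mul_ne_zero hc hd, h1⟩

theorem T_row (g : G) (X : Matrix (Fin a) (Fin e) ℂ) (i : Fin a) :
    D.T g X i = D.R g (∑ k, (D.P g : Matrix (Fin a) (Fin a) ℂ) i k • X k) := by
  rw [T_eq, Matrix.mul_apply_eq_vecMul, R_apply]
  congr 1
  funext j
  simp [Matrix.mul_apply]

theorem T_rows {W : Submodule ℂ (Fin e → ℂ)} {g : G} (hW : ∀ v ∈ W, D.R g v ∈ W)
    {X : Matrix (Fin a) (Fin e) ℂ} (hX : X ∈ rowsIn a W) : D.T g X ∈ rowsIn a W := by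
  intro i
  rw [T_row]
  exact hW _ (W.sum_mem fun k _ => W.smul_mem _ (hX k))

theorem R_irreducible (hirr : ρ.IsIrreducible) {W : Submodule ℂ (Fin e → ℂ)}
    (hW : ∀ g, ∀ v ∈ W, D.R g v ∈ W) : W = ⊥ ∨ W = ⊤ := by
  let i₀ : Fin a := ⟨0, D.a_pos⟩
  rcases (Char.isIrreducible_iff.1 hirr).2 ((rowsIn a W).map D.Φ.toLinearMap) (by
    rintro g _ ⟨X, hX, rfl⟩
    exact ⟨D.T g X, D.T_rows (hW g) hX, D.Φ_T g X⟩) with h | h
  · refine Or.inl (eq_bot_iff.2 fun v hv => ?_)
    have hX : Matrix.of (fun _ : Fin a => v) ∈ rowsIn a W := fun _ => hv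
    have h1 : D.Φ (Matrix.of fun _ : Fin a => v) ∈ (⊥ : Submodule ℂ (Fin n → ℂ)) :=
      h ▸ Submodule.mem_map_of_mem hX
    rw [Submodule.mem_bot, LinearEquiv.map_eq_zero_iff] at h1
    exact (Submodule.mem_bot ℂ).2 (congrFun h1 i₀)
  · refine Or.inr (eq_top_iff.2 fun v _ => ?_)
    have h1 : D.Φ (Matrix.of fun _ : Fin a => v) ∈ (rowsIn a W).map D.Φ.toLinearMap :=
      h ▸ Submodule.mem_top
    obtain ⟨X, hX, hXv⟩ := h1
    have := hX i₀
    rwa [D.Φ.injective hXv] at this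

/-- The finite group covering the right factor. -/
noncomputable def cover : Subgroup ((Module.End ℂ (Fin e → ℂ))ˣ × (G ⧸ M)) where
  carrier := {p | LinearMap.det (p.1 : Module.End ℂ (Fin e → ℂ)) = 1 ∧
    ∃ g : G, (g : G ⧸ M) = p.2 ∧ ∃ c : ℂ, (p.1 : Module.End ℂ (Fin e → ℂ)) = c • D.R g}
  one_mem' := by
    refine ⟨by simp, 1, rfl, ?_⟩
    obtain ⟨c, hc, h⟩ := D.R_mem 1 M.one_mem
    exact ⟨c⁻¹, by rw [h, inv_smul_smul₀ hc]; rfl⟩
  mul_mem' := by
    rintro p p' ⟨hd, g, hg, c, hc⟩ ⟨hd', g', hg', c', hc'⟩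
    refine ⟨by simp [hd, hd'], g * g', by simp [hg, hg'], ?_⟩
    obtain ⟨d, hd0, h⟩ := D.R_mul g g'
    refine ⟨c * c' * d⁻¹, ?_⟩
    rw [Prod.fst_mul, Units.val_mul, hc, hc', h, smul_smul, mul_assoc _ d⁻¹ d, inv_mul_cancel₀ hd0,
      mul_one, smul_mul_smul_comm]
  inv_mem' := by
    rintro p ⟨hd, g, hg, c, hc⟩
    have := D.nontrivial_e
    have h1 : LinearMap.det ((p.1⁻¹ : (Module.End ℂ (Fin e → ℂ))ˣ) :
        Module.End ℂ (Fin e → ℂ)) = 1 := by
      have := congrArg LinearMap.det p.1.mul_inv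
      rwa [map_mul, hd, one_mul, map_one] at this
    refine ⟨h1, g⁻¹, by simp [hg], ?_⟩
    obtain ⟨d, hd0, h⟩ := D.isProj_R.mul_inv g
    have hc0 : c ≠ 0 := ne_zero_of_isUnit_smul (hc ▸ p.1.isUnit)
    refine ⟨(c * d)⁻¹, ?_⟩
    rw [Prod.fst_inv]
    refine Units.inv_eq_of_mul_eq_one_right ?_
    rw [hc, smul_mul_smul_comm, h, smul_smul, show c * (c * d)⁻¹ * d = 1 by field_simp, one_smul]

/-- The projection to the quotient. -/
noncomputable def coverProj : D.cover →* G ⧸ M :=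
  (MonoidHom.snd _ _).comp D.cover.subtype

/-- The representation on rows. -/
noncomputable def coverRep : Representation ℂ D.cover (Fin e → ℂ) :=
  ((Units.coeHom _).comp (MonoidHom.fst _ (G ⧸ M))).comp D.cover.subtype

theorem coverRep_eq (p : D.cover) {g : G} (hg : (g : G ⧸ M) = D.coverProj p) :
    ∃ c : ℂ, c ≠ 0 ∧ D.coverRep p = c • D.R g := by
  have := D.nontrivial_e
  obtain ⟨-, g', hg', c, hc⟩ := p.2
  obtain ⟨d, hd, h⟩ := D.R_congr (g := g) (h := g') (QuotientGroup.eq.1 (hg.trans hg'.symm))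
  have hc0 : c ≠ 0 := ne_zero_of_isUnit_smul (hc ▸ (p : (Module.End ℂ (Fin e → ℂ))ˣ × (G ⧸ M)).1.isUnit)
  refine ⟨c * d, mul_ne_zero hc0 hd, ?_⟩
  show ((p : (Module.End ℂ (Fin e → ℂ))ˣ × (G ⧸ M)).1 : Module.End ℂ (Fin e → ℂ)) = _
  rw [hc, h, smul_smul]

theorem coverProj_surjective : Function.Surjective D.coverProj := by
  intro x
  obtain ⟨g, rfl⟩ := Quotient.mk_surjective x
  have hd : LinearMap.det (D.R g) ≠ 0 := ((D.isUnit_R g).map LinearMap.det).ne_zero
  obtain ⟨c, hc⟩ := IsAlgClosed.exists_pow_nat_eq ((LinearMap.det (D.R g))⁻¹) D.e_pos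
  have hc0 : c ≠ 0 := by
    rintro rfl
    rw [zero_pow D.e_pos.ne'] at hc
    exact inv_ne_zero hd hc.symm
  have hu : IsUnit (c • D.R g) := by
    rw [Algebra.smul_def]
    exact ((IsUnit.mk0 c hc0).map _).mul (D.isUnit_R g)
  refine ⟨⟨(hu.unit, (g : G ⧸ M)), ?_, g, rfl, c, rfl⟩, rfl⟩
  rw [IsUnit.unit_spec, LinearMap.det_smul, Module.finrank_fin_fun, hc, inv_mul_cancel₀ hd]

theorem finite_cover [Finite G] : Finite D.cover := by
  classical
  let r : G ⧸ M → Set ℂ := fun x => {c | c ^ e = (LinearMap.det (D.R x.out))⁻¹}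
  have hr : ∀ x, (r x).Finite := fun x =>
    (Polynomial.nthRoots e (LinearMap.det (D.R x.out))⁻¹).toFinset.finite_toSet.subset
      fun c hc => by simpa [Polynomial.mem_nthRoots D.e_pos, r] using hc
  let T : G ⧸ M → ℂ → Set ((Module.End ℂ (Fin e → ℂ))ˣ × (G ⧸ M)) := fun x c =>
    {p | p.2 = x ∧ (p.1 : Module.End ℂ (Fin e → ℂ)) = c • D.R x.out}
  have hT : ∀ x c, (T x c).Finite := fun x c => Set.Subsingleton.finite fun p hp q hq =>
    Prod.ext (Units.ext (hp.2.trans hq.2.symm)) (hp.1.trans hq.1.symm)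
  refine ((Set.finite_iUnion fun x => (hr x).biUnion fun c _ => hT x c).subset ?_).to_subtype
  intro p hp
  obtain ⟨c, -, hc⟩ := D.coverRep_eq ⟨p, hp⟩ (g := p.2.out) (QuotientGroup.out_eq' p.2)
  have hc' : (p.1 : Module.End ℂ (Fin e → ℂ)) = c • D.R p.2.out := hc
  have hmem : c ∈ r p.2 := by
    have h1 := hp.1
    rw [hc', LinearMap.det_smul, Module.finrank_fin_fun] at h1
    exact eq_inv_of_mul_eq_one_left h1
  simp only [Set.mem_iUnion]
  exact ⟨p.2, c, hmem, rfl, hc'⟩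

theorem solvable_cover (h : Group.IsSolvable (G ⧸ M)) : Group.IsSolvable D.cover := by
  have : Group.IsSolvable D.coverProj.ker := by
    refine Group.isSolvable_of_comm fun p q => ?_
    obtain ⟨c, -, hp⟩ := D.coverRep_eq p.1 (g := 1) (by simpa using p.2.symm)
    obtain ⟨d, -, hd⟩ := D.R_mem 1 M.one_mem
    refine Subtype.ext (Subtype.ext (Prod.ext (Units.ext ?_) ?_))
    · show D.coverRep p.1 * D.coverRep q.1 = D.coverRep q.1 * D.coverRep p.1
      rw [hp, hd]
      simp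
    · show D.coverProj p.1 * D.coverProj q.1 = D.coverProj q.1 * D.coverProj p.1
      rw [MonoidHom.mem_ker.1 p.2, MonoidHom.mem_ker.1 q.2]
  exact Group.isSolvable_of_ker_le_range D.coverProj.ker.subtype D.coverProj (by simp)

theorem rowMap_T {E : Module.End ℂ (Fin e → ℂ)} {g : G} (h : Commute E (D.R g))
    (X : Matrix (Fin a) (Fin e) ℂ) : rowMap a E (D.T g X) = D.T g (rowMap a E X) := by
  refine funext fun i => ?_
  rw [rowMap_row, T_row, T_row, ← Module.End.mul_apply, h.eq, Module.End.mul_apply, map_sum]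
  simp only [map_smul, rowMap_row]

theorem coverRep_isotypic (hiso : ∀ N : Subgroup G, N.Normal → M ≤ N → Isotypic ρ N)
    (N : Subgroup D.cover) (hN : N.Normal) : Isotypic D.coverRep N := by
  intro E hE hEF
  let N₀ : Subgroup G := (N.map D.coverProj).comap (QuotientGroup.mk' M)
  have hN₀ : N₀.Normal := (hN.map _ D.coverProj_surjective).comap _
  have hMN₀ : M ≤ N₀ := fun m hm => by
    show (m : G ⧸ M) ∈ N.map D.coverProj
    rw [(QuotientGroup.eq_one_iff m).2 hm]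
    exact Subgroup.one_mem _
  let i₀ : Fin a := ⟨0, D.a_pos⟩
  have hER : ∀ g ∈ N₀, Commute E (D.R g) := by
    rintro g ⟨p, hp, hpg⟩
    obtain ⟨c, hc, h⟩ := D.coverRep_eq p hpg.symm
    have h' := (hE p hp).smul_right c⁻¹
    rwa [h, inv_smul_smul₀ hc] at h'
  let E' : Module.End ℂ (Fin n → ℂ) := D.Φ.toLinearMap ∘ₗ rowMap a E ∘ₗ D.Φ.symm.toLinearMap
  have hE' : ∀ X, E' (D.Φ X) = D.Φ (rowMap a E X) := fun X => by simp [E']
  obtain ⟨c, hc⟩ := hiso N₀ hN₀ hMN₀ E' (fun g hg => LinearMap.ext fun w => by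
      obtain ⟨X, rfl⟩ := D.Φ.surjective w
      rw [Module.End.mul_apply, Module.End.mul_apply, ← D.Φ_T, hE', hE', ← D.Φ_T,
        D.rowMap_T (hER g hg)]) (fun F hF => by
    obtain ⟨C', hC'⟩ := D.exists_right' F fun x hx => hF x (hMN₀ hx)
    have hCR : ∀ g ∈ N₀, Commute (Matrix.vecMulLinear C' : Module.End ℂ (Fin e → ℂ)) (D.R g) := by
      intro g hg
      refine LinearMap.ext fun v => ?_
      have h := LinearMap.congr_fun (hF g hg).eq (D.Φ (Matrix.of fun _ : Fin a => v))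
      rw [Module.End.mul_apply, Module.End.mul_apply, hC', ← D.Φ_T, ← D.Φ_T, hC',
        D.Φ.injective.eq_iff, T_eq, T_eq] at h
      have h' := congrArg (fun Y => (↑(D.P g)⁻¹ : Matrix (Fin a) (Fin a) ℂ) * Y) h
      simp only [← Matrix.mul_assoc, Units.inv_mul, Matrix.one_mul] at h'
      simp only [Matrix.mul_assoc] at h'
      have h'' := congrFun h' i₀
      rw [Matrix.mul_apply_eq_vecMul, Matrix.mul_apply_eq_vecMul] at h''
      simpa [R, Module.End.mul_apply, Matrix.vecMul_vecMul, Matrix.of_apply] using! h''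
    have hEC := hEF (Matrix.vecMulLinear C') fun p hp => by
      obtain ⟨g, hg⟩ := Quotient.mk_surjective (D.coverProj p)
      obtain ⟨c, -, h⟩ := D.coverRep_eq p hg
      rw [h]
      exact (hCR g ⟨p, hp, hg.symm⟩).smul_right c
    refine LinearMap.ext fun w => ?_
    obtain ⟨X, rfl⟩ := D.Φ.surjective w
    rw [Module.End.mul_apply, Module.End.mul_apply, hC', hE', hE', hC']
    congr 1
    refine funext fun i => ?_
    rw [rowMap_row, Matrix.mul_apply_eq_vecMul, Matrix.mul_apply_eq_vecMul, rowMap_row]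
    exact LinearMap.congr_fun hEC.eq (X i))
  refine ⟨c, LinearMap.ext fun v => ?_⟩
  have h := LinearMap.congr_fun hc (D.Φ (Matrix.of fun _ : Fin a => v))
  rw [hE', LinearMap.smul_apply, Module.End.one_apply, ← map_smul, D.Φ.injective.eq_iff] at h
  exact congrFun h i₀

theorem coverRep_irreducible (hirr : ρ.IsIrreducible) : D.coverRep.IsIrreducible := by
  have : Nonempty (Fin e) := ⟨⟨0, D.e_pos⟩⟩
  refine Char.isIrreducible_iff.2 ⟨inferInstance, fun W hW => D.R_irreducible hirr fun g v hv => ?_⟩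
  obtain ⟨p, hp⟩ := D.coverProj_surjective (g : G ⧸ M)
  obtain ⟨c, hc, h⟩ := D.coverRep_eq p hp.symm
  have h1 := W.smul_mem c⁻¹ (hW p v hv)
  rwa [h, LinearMap.smul_apply, inv_smul_smul₀ hc] at h1

end Split

/-- In dimension `e` no invariant subspace of a proper subgroup is as small as an inducing one. -/
def NoBlock (e : ℕ) : Prop :=
  ∀ (G : Type u) [Group G] [Finite G], Group.IsSolvable G →
    ∀ ρ : Representation ℂ G (Fin e → ℂ), ρ.IsIrreducible →
      (∀ N : Subgroup G, N.Normal → Isotypic ρ N) → ∀ K : Subgroup G, K ≠ ⊤ →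
        ∀ X : Submodule ℂ (Fin e → ℂ), X ≠ ⊥ → (∀ k ∈ K, ∀ x ∈ X, ρ k x ∈ X) →
          e < finrank ℂ X * K.index

namespace Split

theorem false_of_noBlock {G : Type u} [Group G] [Finite G] {n a e : ℕ}
    {ρ : Representation ℂ G (Fin n → ℂ)} {M : Subgroup G} [M.Normal] (D : Split ρ M a e)
    (IH : NoBlock.{u} e) (hirr : ρ.IsIrreducible) (hsol : Group.IsSolvable (G ⧸ M))
    (hiso : ∀ N : Subgroup G, N.Normal → M ≤ N → Isotypic ρ N) (K : Subgroup G) (hMK : M ≤ K)
    (hK : K ≠ ⊤) (Y : Submodule ℂ (Fin e → ℂ)) (hY0 : Y ≠ ⊥)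
    (hYK : ∀ k ∈ K, ∀ v ∈ Y, D.R k v ∈ Y) (hdim : finrank ℂ Y * K.index ≤ e) : False := by
  have := D.finite_cover
  let K' : Subgroup D.cover := (K.map (QuotientGroup.mk' M)).comap D.coverProj
  have hindex : K'.index = K.index := by
    rw [Subgroup.index_comap_of_surjective _ D.coverProj_surjective,
      Subgroup.index_map_eq K (QuotientGroup.mk'_surjective M) (by simpa using hMK)]
  have hK' : K' ≠ ⊤ := fun h => hK (Subgroup.index_eq_one.1 (by rw [← hindex, h, Subgroup.index_top]))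
  have := IH D.cover (D.solvable_cover hsol) D.coverRep (D.coverRep_irreducible hirr)
    (D.coverRep_isotypic hiso) K' hK' Y hY0 (by
      rintro p ⟨k, hk, hkp⟩ v hv
      obtain ⟨c, -, h⟩ := D.coverRep_eq p hkp
      rw [h, LinearMap.smul_apply]
      exact Y.smul_mem c (hYK k hk v hv))
  rw [hindex] at this
  omega

end Split

end Cfsg.Agent.ProjExt
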