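import Cfsg.Agent.ProjExt.Berger.Projective
import Mathlib.LinearAlgebra.Dimension.Finite
import Mathlib.GroupTheory.GroupAction.Quotient

/-!
Small invariant subspaces: growing one to an overgroup, passing one to the row space.
-/

set_option autoImplicit false

namespace Cfsg.Agent.ProjExt

open Module

universe u v

theorem finrank_finsetSup_le {V : Type v} [AddCommGroup V] [Module ℂ V] [FiniteDimensional ℂ V]
    {ι : Type*} (s : Finset ι) (F : ι → Submodule ℂ V) :
    finrank ℂ (s.sup F : Submodule ℂ V) ≤ ∑ i ∈ s, finrank ℂ (F i) := by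
  classical
  induction s using Finset.induction with
  | empty => simp
  | insert i s hi ih =>
    rw [Finset.sup_insert, Finset.sum_insert hi]
    exact (Submodule.finrank_add_le_finrank_add_finrank _ _).trans (by omega)

theorem finrank_finsetSup_eq {V : Type v} [AddCommGroup V] [Module ℂ V] [FiniteDimensional ℂ V]
    {ι : Type*} (s : Finset ι) (F : ι → Submodule ℂ V) (h : iSupIndep F) :
    finrank ℂ (s.sup F : Submodule ℂ V) = ∑ i ∈ s, finrank ℂ (F i) := by
  classical
  induction s using Finset.induction with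
  | empty => simp
  | insert i s hi ih =>
    rw [Finset.sup_insert, Finset.sum_insert hi, ← ih, ← Submodule.finrank_sup_add_finrank_inf_eq]
    have hd : Disjoint (F i) (s.sup F) := by
      rw [Finset.sup_eq_iSup]
      exact h.disjoint_biSup (by simpa using hi)
    rw [disjoint_iff.1 hd, finrank_bot, add_zero]

variable {G : Type u} [Group G] [Finite G]

/-- The sum of the translates of a subspace by an overgroup. -/
theorem exists_translate_sum {V : Type v} [AddCommGroup V] [Module ℂ V] [FiniteDimensional ℂ V]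
    {f : G → Module.End ℂ V} (hf : IsProj f) {K H : Subgroup G} {X : Submodule ℂ V}
    (hX : ∀ k ∈ K, ∀ x ∈ X, f k x ∈ X) :
    ∃ X' : Submodule ℂ V, X ≤ X' ∧ (∀ h ∈ H, ∀ x ∈ X', f h x ∈ X') ∧
      finrank ℂ X' ≤ K.relIndex H * finrank ℂ X := by
  classical
  let _ : MulAction G (Submodule ℂ V) := hf.subAction
  let O : Set (Submodule ℂ V) := MulAction.orbit H X
  have hO : O.Finite := Set.finite_range _
  refine ⟨hO.toFinset.sup id, ?_, ?_, ?_⟩
  · exact Finset.le_sup (f := id) (hO.mem_toFinset.2 (MulAction.mem_orbit_self X))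
  · intro h hh x hx
    have h1 : (hO.toFinset.sup id).map (f h) ≤ hO.toFinset.sup id := by
      rw [Finset.sup_eq_iSup, Submodule.map_iSup]
      refine iSup_le fun W => ?_
      rw [Submodule.map_iSup]
      refine iSup_le fun hW => ?_
      rw [← Finset.sup_eq_iSup]
      refine Finset.le_sup (f := id) (b := W.map (f h)) (hO.mem_toFinset.2 ?_)
      exact MulAction.mem_orbit_of_mem_orbit (⟨h, hh⟩ : H) (hO.mem_toFinset.1 hW)
    exact h1 (Submodule.mem_map_of_mem hx)
  · have hdim : ∀ W ∈ hO.toFinset, finrank ℂ (id W : Submodule ℂ V) = finrank ℂ X := by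
      intro W hW
      obtain ⟨g, rfl⟩ := hO.mem_toFinset.1 hW
      exact (Submodule.equivMapOfInjective _ (hf.injective (g : G)) X).finrank_eq.symm
    have hcard : hO.toFinset.card ≤ K.relIndex H := by
      rw [← Set.ncard_eq_toFinset_card O hO, ← MulAction.index_stabilizer H X]
      refine Nat.le_of_dvd (Nat.pos_of_ne_zero Subgroup.index_ne_zero_of_finite) ?_
      refine Subgroup.index_dvd_of_le fun k hk => ?_
      exact hf.mem_stab_of_le (hX _ (Subgroup.mem_subgroupOf.1 hk))
    calc _ ≤ ∑ W ∈ hO.toFinset, finrank ℂ (id W : Submodule ℂ V) := finrank_finsetSup_le _ _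
      _ = hO.toFinset.card * finrank ℂ X := by
        rw [Finset.sum_congr rfl hdim, Finset.sum_const, smul_eq_mul]
      _ ≤ _ := Nat.mul_le_mul_right _ hcard

theorem isProj_rep {V : Type v} [AddCommGroup V] [Module ℂ V] (ρ : Representation ℂ G V) :
    IsProj (G := G) (fun g => ρ g) :=
  ⟨fun g h => ⟨1, one_ne_zero, by rw [one_smul, map_mul]⟩,
    ⟨1, one_ne_zero, by rw [one_smul, map_one]⟩⟩

/-- An invariant subspace of a group above `M` gives an invariant space of rows. -/
theorem Split.exists_rowSpace {n a e : ℕ} {ρ : Representation ℂ G (Fin n → ℂ)} {M : Subgroup G}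
    [M.Normal] (D : Split ρ M a e) {H : Subgroup G} (hMH : M ≤ H) {X : Submodule ℂ (Fin n → ℂ)}
    (hX0 : X ≠ ⊥) (hXH : ∀ h ∈ H, ∀ x ∈ X, ρ h x ∈ X) :
    ∃ Y : Submodule ℂ (Fin e → ℂ), Y ≠ ⊥ ∧ (∀ h ∈ H, ∀ v ∈ Y, D.R h v ∈ Y) ∧
      a * finrank ℂ Y ≤ finrank ℂ X := by
  classical
  have : NeZero (Nat.card M : ℂ) := ⟨Nat.cast_ne_zero.2 Nat.card_pos.ne'⟩
  let τ : Representation ℂ M (Fin n → ℂ) := ρ.comp M.subtype
  let S : Subrepresentation τ := ⟨X, fun m x hx => hXH m (hMH m.2) x hx⟩
  obtain ⟨T, hT⟩ := exists_isCompl S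
  have hc : IsCompl X T.toSubmodule := by
    constructor
    · rw [disjoint_iff]; exact congrArg Subrepresentation.toSubmodule (disjoint_iff.1 hT.1)
    · rw [codisjoint_iff]; exact congrArg Subrepresentation.toSubmodule (codisjoint_iff.1 hT.2)
  let π : Module.End ℂ (Fin n → ℂ) := X.subtype ∘ₗ X.projectionOnto T.toSubmodule hc
  have hπX : ∀ x ∈ X, π x = x := fun x hx =>
    congrArg Subtype.val (Submodule.projectionOnto_apply_left hc ⟨x, hx⟩)
  have hπT : ∀ x ∈ T.toSubmodule, π x = 0 := fun x hx =>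
    congrArg Subtype.val (Submodule.projectionOnto_apply_right hc ⟨x, hx⟩)
  have hπmem : ∀ x, π x ∈ X := fun x => (X.projectionOnto T.toSubmodule hc x).2
  obtain ⟨C', hC'⟩ := D.exists_right' π fun m hm => by
    refine LinearMap.ext fun v => ?_
    obtain ⟨x, hx, y, hy, rfl⟩ := Submodule.mem_sup.1
      (hc.sup_eq_top.ge (Submodule.mem_top (x := v)))
    rw [Module.End.mul_apply, Module.End.mul_apply, map_add, map_add, map_add,
      hπX x hx, hπT y hy, hπX _ (hXH m (hMH hm) x hx),
      show π (ρ m y) = 0 from hπT _ (T.apply_mem_toSubmodule ⟨m, hm⟩ hy),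
      add_zero, add_zero]
  let Y : Submodule ℂ (Fin e → ℂ) := LinearMap.range (Matrix.vecMulLinear C')
  have hrow : ∀ Z : Matrix (Fin a) (Fin e) ℂ, D.Φ Z ∈ X → ∀ i, Z i ∈ Y := by
    intro Z hZ i
    have h1 : Z * C' = Z := D.Φ.injective (by rw [← hC', hπX _ hZ])
    exact ⟨Z i, by rw [Matrix.vecMulLinear_apply, ← Matrix.mul_apply_eq_vecMul, h1]⟩
  let i₀ : Fin a := ⟨0, D.a_pos⟩
  let j : (Fin a → Y) →ₗ[ℂ] X := LinearMap.codRestrict X
    (D.Φ.toLinearMap ∘ₗ
      ({ toFun := fun Z => Matrix.of fun i => (Z i : Fin e → ℂ)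
         map_add' := fun _ _ => rfl
         map_smul' := fun _ _ => rfl } : (Fin a → Y) →ₗ[ℂ] Matrix (Fin a) (Fin e) ℂ)) fun Z => by
      choose w hw using fun i => (Z i).2
      have h1 : (Matrix.of fun i => (Z i : Fin e → ℂ)) = Matrix.of w * C' := funext fun i => by
        rw [Matrix.mul_apply_eq_vecMul]
        exact (hw i).symm
      show D.Φ (Matrix.of fun i => (Z i : Fin e → ℂ)) ∈ X
      rw [h1, ← hC']
      exact hπmem _
  refine ⟨Y, fun h0 => hX0 (eq_bot_iff.2 fun x hx => ?_), fun h hh v hv => ?_, ?_⟩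
  · obtain ⟨Z, rfl⟩ := D.Φ.surjective x
    have h1 : Z = 0 := funext fun i => by
      have h2 := hrow Z hx i
      rwa [h0, Submodule.mem_bot] at h2
    simp [h1]
  · let Z : Fin a → Y := fun k => if k = i₀ then ⟨v, hv⟩ else 0
    have hZ : D.Φ (Matrix.of fun i => (Z i : Fin e → ℂ)) ∈ X := (j Z).2
    have h1 := hXH h hh _ hZ
    rw [← D.Φ_T] at h1
    obtain ⟨i, hi⟩ : ∃ i, (D.P h : Matrix (Fin a) (Fin a) ℂ) i i₀ ≠ 0 := by
      by_contra! h2
      have h3 := congrFun (congrFun (D.P h).inv_mul i₀) i₀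
      rw [Matrix.mul_apply, Finset.sum_eq_zero fun k _ => by rw [h2 k, mul_zero],
        Matrix.one_apply_eq] at h3
      exact zero_ne_one h3
    have h4 := hrow _ h1 i
    rw [D.T_row, Finset.sum_eq_single i₀ (fun k _ hk => by
      show _ • (Z k : Fin e → ℂ) = 0
      simp [Z, hk]) (by simp), map_smul] at h4
    have h5 := Y.smul_mem ((D.P h : Matrix (Fin a) (Fin a) ℂ) i i₀)⁻¹ h4
    rw [inv_smul_smul₀ hi] at h5
    simpa [Z] using! h5
  · have hinj : Function.Injective j := fun Z Z' hZ => by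
      have h1 := D.Φ.injective (congrArg Subtype.val hZ)
      exact funext fun i => Subtype.ext (congrFun h1 i)
    have := LinearMap.finrank_le_finrank_of_injective hinj
    rwa [Module.finrank_pi_fintype, Finset.sum_const, Finset.card_univ, Fintype.card_fin,
      smul_eq_mul] at this

end Cfsg.Agent.ProjExt
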